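import Mathlib
import Cfsg.Agent.Nodes.Reps
import Cfsg.Agent.Nodes.LeviDec
import Cfsg.Agent.Tits.OppRes
import Cfsg.Agent.Nodes.CardSup_m3
import Cfsg.Agent.H631.Kaw.Coef_m3
import Cfsg.Agent.FastGrp
import Cfsg.Agent.Prune
set_option linter.all false

section
prune_inst 0x7f00000000000000000000000000000000000000000000000000000000000000000000000000000000000000000000000000000000000000000000000000000000000000000000000000000000000000003fffffffffffffffffffffffffffbeffbdffffffff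

-- part: H769/Kaw/Step
section
set_option linter.all false
open scoped Cfsg.Agent.FastGrp

-- part: H769/Kaw/Sum
section
/-!
# Sums over subgroups acting on a module (S4842, K-ALL part (A); helper769)

* `sm H f = ∑ x ∈ H, x • f`;
* `sm_cj`, `sm_fix`, `sm_eq_zero_of_le`, `sm_mul` (product decomposition), `sum_powerset_Icc` (signs).
-/

set_option autoImplicit false

open Cfsg.Agent.Nodes.Reps

namespace Cfsg.Agent.H769.Kaw

variable {Y V : Type*} [Group Y] [Fintype Y] [AddCommGroup V] [DistribMulAction Y V]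

open Classical in
/-- `∑ x ∈ H, x • f` -/
noncomputable def sm (H : Subgroup Y) (f : V) : V := ∑ x ∈ Finset.univ.filter (· ∈ H), x • f

open Classical in
theorem sm_def (H : Subgroup Y) (f : V) : sm H f = ∑ x ∈ Finset.univ.filter (· ∈ H), x • f := rfl

/-- left translates -/
theorem smul_sm_of_mem {H : Subgroup Y} {a : Y} (ha : a ∈ H) (f : V) : a • sm H f = sm H f := by
  classical
  rw [sm_def, Finset.smul_sum]
  refine Finset.sum_bij (fun x _ => a * x) (fun x hx => ?_) (fun x _ y _ hxy => mul_left_cancel hxy)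
    (fun y hy => ⟨a⁻¹ * y, ?_, by group⟩) (fun x _ => (mul_smul a x f).symm)
  · simp only [Finset.mem_filter, Finset.mem_univ, true_and] at hx ⊢
    exact mul_mem ha hx
  · simp only [Finset.mem_filter, Finset.mem_univ, true_and] at hy ⊢
    exact mul_mem (inv_mem ha) hy

/-- conjugates -/
theorem sm_cj (g : Y) (H : Subgroup Y) (f : V) : sm (cj g H) f = g • sm H (g⁻¹ • f) := by
  classical
  rw [sm_def, sm_def, Finset.smul_sum]
  refine Finset.sum_bij (fun x _ => g⁻¹ * x * g) (fun x hx => ?_) (fun x _ y _ hxy => ?_)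
    (fun y hy => ⟨g * y * g⁻¹, ?_, by group⟩) (fun x _ => ?_)
  · simp only [Finset.mem_filter, Finset.mem_univ, true_and] at hx ⊢
    exact mem_cj.1 hx
  · simpa only [_root_.mul_left_inj, _root_.mul_right_inj] using hxy
  · simp only [Finset.mem_filter, Finset.mem_univ, true_and] at hy ⊢
    exact conj_mem_cj.2 hy
  · rw [← mul_smul, ← mul_smul]
    congr 1
    group

omit [Fintype Y] in
theorem cj_of_normalizer {g : Y} {H : Subgroup Y} (hg : g ∈ Subgroup.normalizer (H : Set Y)) : cj g H = H :=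
  mem_normalizer_iff_cj.1 hg

/-- a factorization `H = A B` with trivial intersection -/
theorem sm_mul {H A B : Subgroup Y} (hA : A ≤ H) (hB : B ≤ H) (hAB : ∀ x ∈ A, x ∈ B → x = 1)
    (hm : ∀ x ∈ H, ∃ a ∈ A, ∃ b ∈ B, x = a * b) (f : V) : sm H f = sm A (sm B f) := by
  classical
  rw [sm_def, sm_def, sm_def]
  simp only [Finset.smul_sum]
  rw [← Finset.sum_product']
  refine (Finset.sum_bij (fun (x : Y × Y) _ => x.1 * x.2) (fun x hx => ?_) (fun x hx y hy hxy => ?_)
    (fun y hy => ?_) (fun x _ => ?_)).symm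
  · simp only [Finset.mem_product, Finset.mem_filter, Finset.mem_univ, true_and] at hx ⊢
    exact mul_mem (hA hx.1) (hB hx.2)
  · simp only [Finset.mem_product, Finset.mem_filter, Finset.mem_univ, true_and] at hx hy
    have h1 : y.1⁻¹ * x.1 = y.2 * x.2⁻¹ := by
      rw [inv_mul_eq_iff_eq_mul, ← mul_assoc, ← hxy]
      group
    have h2 : y.1⁻¹ * x.1 = 1 :=
      hAB _ (mul_mem (inv_mem hy.1) hx.1) (by rw [h1]; exact mul_mem hy.2 (inv_mem hx.2))
    have h3 : x.1 = y.1 := (inv_mul_eq_one.1 h2).symm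
    rw [h2] at h1
    have h4 : y.2 = x.2 := by rw [eq_comm, mul_inv_eq_one] at h1; exact h1
    exact Prod.ext h3 h4.symm
  · simp only [Finset.mem_filter, Finset.mem_univ, true_and] at hy
    obtain ⟨a, ha, b, hb, rfl⟩ := hm y hy
    exact ⟨(a, b), by simp [ha, hb], rfl⟩
  · rw [mul_smul]

theorem sm_of_fix {H : Subgroup Y} {f : V} (hf : ∀ x ∈ H, x • f = f) : sm H f = Nat.card H • f := by
  classical
  rw [sm_def, Finset.sum_congr rfl fun x hx => hf x (Finset.mem_filter.1 hx).2, Finset.sum_const]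
  congr 1
  rw [Nat.card_eq_fintype_card, Fintype.card_subtype]

theorem sm_smul (H : Subgroup Y) (k : ℕ) (f : V) : sm H (k • f) = k • sm H f := by
  classical
  rw [sm_def, sm_def, Finset.smul_sum]
  exact Finset.sum_congr rfl fun x _ => smul_comm x k f

/-- `H = A B` and `B` fixes `f` -/
theorem sm_mul_of_fix {H A B : Subgroup Y} (hA : A ≤ H) (hB : B ≤ H) (hAB : ∀ x ∈ A, x ∈ B → x = 1)
    (hm : ∀ x ∈ H, ∃ a ∈ A, ∃ b ∈ B, x = a * b) {f : V} (hf : ∀ x ∈ B, x • f = f) :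
    sm H f = Nat.card B • sm A f := by
  rw [sm_mul hA hB hAB hm, sm_of_fix hf, sm_smul]

/-- a subgroup of `H` with sum zero -/
theorem sm_eq_zero_of_le {H A : Subgroup Y} (hA : A ≤ H) {f : V} (hf : sm A f = 0) : sm H f = 0 := by
  classical
  have h1 : sm H f = ∑ c : H ⧸ A.subgroupOf H, ((c.out : H) : Y) • sm A f := by
    rw [sm_def]
    simp only [sm_def, Finset.smul_sum]
    rw [← Finset.sum_product']
    refine (Finset.sum_bij (fun (x : (H ⧸ A.subgroupOf H) × Y) _ => ((x.1.out : H) : Y) * x.2) (fun x hx => ?_)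
      (fun x hx y hy hxy => ?_) (fun y hy => ?_) (fun x _ => ?_)).symm
    · simp only [Finset.mem_product, Finset.mem_filter, Finset.mem_univ, true_and] at hx ⊢
      exact mul_mem x.1.out.2 (hA hx)
    · simp only [Finset.mem_product, Finset.mem_filter, Finset.mem_univ, true_and] at hx hy
      have h2 : x.1 = y.1 := by
        rw [← x.1.out_eq', ← y.1.out_eq', QuotientGroup.eq, Subgroup.mem_subgroupOf]
        have h3 : (((x.1.out : H)⁻¹ * (y.1.out : H) : H) : Y) = x.2 * y.2⁻¹ := by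
          have h4 : ((x.1.out : H) : Y) * x.2 = ((y.1.out : H) : Y) * y.2 := hxy
          rw [Subgroup.coe_mul, Subgroup.coe_inv, inv_mul_eq_iff_eq_mul, ← mul_assoc, h4]
          group
        rw [h3]
        exact mul_mem hx (inv_mem hy)
      have h5 : ((x.1.out : H) : Y) * x.2 = ((y.1.out : H) : Y) * y.2 := hxy
      rw [h2] at h5
      exact Prod.ext h2 (mul_left_cancel h5)
    · simp only [Finset.mem_filter, Finset.mem_univ, true_and] at hy
      set c : H ⧸ A.subgroupOf H := QuotientGroup.mk ⟨y, hy⟩ with hc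
      have h2 : (c.out : H)⁻¹ * ⟨y, hy⟩ ∈ A.subgroupOf H := by
        rw [← QuotientGroup.eq, hc]
        exact Quotient.out_eq' _
      rw [Subgroup.mem_subgroupOf] at h2
      refine ⟨(c, ((c.out : H) : Y)⁻¹ * y), ?_, ?_⟩
      · simp only [Finset.mem_product, Finset.mem_filter, Finset.mem_univ, true_and]
        exact h2
      · simp
    · rw [mul_smul]
  rw [h1]
  exact Finset.sum_eq_zero fun c _ => by rw [hf, smul_zero]

/-- the alternating sum over an interval of finite sets -/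
theorem sum_interval {ι : Type*} [Fintype ι] [DecidableEq ι] {K D : Finset ι} (hKD : K ⊆ D) (hne : K ≠ D) (v : V) :
    ∑ J ∈ Finset.univ.filter (fun J : Finset ι => K ⊆ J ∧ J ⊆ D), (-1 : ℤ) ^ J.card • v = 0 := by
  obtain ⟨j, hjD, hjK⟩ : ∃ j ∈ D, j ∉ K := by
    by_contra hcon
    push Not at hcon
    exact hne (Finset.Subset.antisymm hKD hcon)
  refine Finset.sum_involution (fun J _ => if j ∈ J then J.erase j else insert j J) ?_ ?_ ?_ ?_
  · intro J hJ
    by_cases h1 : j ∈ J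
    · rw [if_pos h1, Finset.card_erase_of_mem h1]
      obtain ⟨m, hm⟩ : ∃ m, J.card = m + 1 := ⟨J.card - 1, by have := Finset.card_pos.2 ⟨j, h1⟩; omega⟩
      rw [hm, Nat.add_sub_cancel, pow_succ, mul_neg_one, neg_smul, neg_add_cancel]
    · rw [if_neg h1, Finset.card_insert_of_notMem h1, pow_succ, mul_neg_one, neg_smul, add_neg_cancel]
  · intro J hJ _ he
    by_cases h1 : j ∈ J
    · rw [if_pos h1] at he
      exact absurd h1 (by rw [← he]; exact Finset.notMem_erase j J)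
    · rw [if_neg h1] at he
      exact h1 (by rw [← he]; exact Finset.mem_insert_self j J)
  · intro J hJ
    simp only [Finset.mem_filter, Finset.mem_univ, true_and] at hJ ⊢
    by_cases h1 : j ∈ J
    · rw [if_pos h1]
      exact ⟨fun x hx => Finset.mem_erase.2 ⟨fun he => hjK (he ▸ hx), hJ.1 hx⟩,
        (Finset.erase_subset j J).trans hJ.2⟩
    · rw [if_neg h1]
      exact ⟨hJ.1.trans (Finset.subset_insert j J), Finset.insert_subset hjD hJ.2⟩
  · intro J hJ
    by_cases h1 : j ∈ J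
    · simp only [if_pos h1, Finset.notMem_erase, if_false]
      exact Finset.insert_erase h1
    · simp only [if_neg h1, Finset.mem_insert_self, if_true]
      exact Finset.erase_insert h1

end Cfsg.Agent.H769.Kaw
end

-- part: H769/Kaw/Coset
section
/-!
# Cosets of parabolic subgroups and cells (S4842, K-ALL part (A); helper769)

* `MinP R J g` : `g` lies in a cell `w` with `w α_j > 0` for `j ∈ J`;
* `sumQ` : for a right `P_J`-invariant function: the sum over `G / P_J` is the sum over the cosets `g B` with `MinP`.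
-/

set_option autoImplicit false
set_option linter.unusedSectionVars false

namespace Cfsg.Agent.H769.Kaw

open CoxeterSystem Cfsg.Agent.ChevalleyStructure.CoxeterGeom Cfsg.Agent.Tits.Roots Cfsg.Agent.Tits.Core
  Cfsg.Agent.Tits.Exchange Cfsg.Agent.Nodes.Reps Cfsg.Agent.Nodes.BNOf Cfsg.Agent.Nodes.StabComb
  Cfsg.Agent.Nodes.Comb Cfsg.Agent.Nodes.Bruhat Cfsg.Agent.Nodes.OppDec Cfsg.Agent.Nodes.LeviDec

variable {I W Y : Type*} [Fintype I] [DecidableEq I] [Group W] [Group Y] {M : CoxeterMatrix I}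
  {cs : CoxeterSystem M W} {A : I → I → ℤ} {h : IsCartan M A} {p : ℕ} {T : Subgroup Y} {n : I → Y}
  {X : (I → ℤ) → Subgroup Y}

theorem eq_sum_sr (x : I → ℤ) : x = ∑ k, x k • sr k := by
  funext k
  rw [Finset.sum_apply, Finset.sum_eq_single k (fun b _ hb => by
    rw [Pi.smul_apply, sr_ne hb.symm, smul_zero]) (by simp only [_root_.Finset.mem_univ, _root_.not_true_eq_false, _root_.Pi.smul_apply, _root_.Int.zsmul_eq_mul, _root_.mul_eq_zero, _root_.IsEmpty.forall_iff]), Pi.smul_apply, sr_self, smul_eq_mul, mul_one]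

theorem rep_nonneg_of_supp {J : Set I} {w : W} (hw : ∀ i ∈ J, 0 ≤ rep cs h w (sr i)) {x : I → ℤ} (h0 : 0 ≤ x)
    (hx : ∀ k, k ∉ J → x k = 0) : 0 ≤ rep cs h w x := by
  rw [eq_sum_sr x, map_sum]
  refine Finset.sum_nonneg fun k _ => ?_
  rw [map_smul]
  by_cases hk : k ∈ J
  · exact smul_nonneg (h0 k) (hw k hk)
  · rw [hx k hk, zero_smul]

/-- `g` lies in a cell `w` with `w α_j > 0` for all `j ∈ J` -/
def MinP (R : RGD cs h p T n X) (J : Set I) (g : Y) : Prop :=
  ∃ w, Cell R.nsys cs h X w g ∧ ∀ j ∈ J, 0 ≤ rep cs h w (sr j)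

variable (R : RGD cs h p T n X)

include R

theorem MinP.mul_right {J : Set I} {g b : Y} (hg : MinP R J g) (hb : b ∈ RGD.B cs h T X) : MinP R J (g * b) := by
  obtain ⟨w, hw, h1⟩ := hg
  exact ⟨w, hw.mul_right hb, h1⟩

theorem MinP.mem_B [Finite W] {J : Set I} {g x : Y} (hg : MinP R J g) (hx : x ∈ PJ cs h T X J)
    (hgx : MinP R J (g * x)) : x ∈ RGD.B cs h T X := by
  obtain ⟨w0, hw0, h0⟩ := hg
  obtain ⟨w2, hw2, h2⟩ := hgx
  obtain ⟨w1, hw1, hc⟩ := (mem_PJ_iff_cell R).1 hx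
  have hF : Cfsg.Agent.Tits.OppRes.Cox cs := inferInstance
  have hlen := hF.add_right J w0 (fun j hj => (lt_iff' cs h w0 j).2 (h0 j hj)) w1 hw1
  have h3 := Cell.unique R hw2 (Cell.mul_of_length R hlen hw0 hc)
  by_cases h1 : w1 = 1
  · rw [h1] at hc
    exact hc.mem_of_one
  exfalso
  obtain ⟨j, hj, hlt⟩ := hF.exists_descent hw1 h1
  have h4 : rep cs h w1 (sr j) ≤ 0 := nonpos_of_lt cs h w1 j hlt
  have h5 : rep cs h w1 (sr j) ∈ RootsJ cs h J :=
    RootsJ.act hw1 (PosJ_subset J (sr_mem_PosJ hj))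
  have h6 : 0 ≤ rep cs h w0 (-(rep cs h w1 (sr j))) :=
    rep_nonneg_of_supp h0 (neg_nonneg.2 h4) fun k hk => by rw [Pi.neg_apply, h5.2 k hk, neg_zero]
  rw [map_neg, ← rep_mul_apply] at h6
  have h7 := h2 j hj
  rw [h3] at h7
  exact ((isRoot_sr cs h j).act (w0 * w1)).not_pos_neg h7 (neg_nonneg.1 h6)

/-- every coset of `P_J` meets these cells -/
theorem exists_minP [Finite W] (hG : GG cs h T X = ⊤) (J : Set I) (g : Y) :
    ∃ x ∈ PJ cs h T X J, MinP R J (g * x) := by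
  obtain ⟨w, b₁, hb₁, k, hk, b₂, hb₂, rfl⟩ := (mem_GG R).1 (by rw [hG]; exact Subgroup.mem_top g)
  obtain ⟨v, hv, hmin⟩ := exists_min (cs := cs) w J
  obtain ⟨kv, hkv⟩ := exists_rp cs R.nsys v
  refine ⟨b₂⁻¹ * kv, mul_mem (B_le_PJ (inv_mem hb₂)) (LJ_le_PJ (rp_mem_LJ R hv hkv)), w * v,
    ⟨b₁, hb₁, k * kv, hk.mul hkv, 1, one_mem _, by group⟩, fun j hj => nonneg_of_min cs h hv hmin hj⟩

open Classical in
/-- **sums over `G / P_J`** -/
theorem sumQ [Finite W] [Fintype Y] {V : Type*} [AddCommMonoid V] (hG : GG cs h T X = ⊤) (J : Set I) (φ : Y → V)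
    (hφ : ∀ g, ∀ x ∈ PJ cs h T X J, φ (g * x) = φ g) :
    ∑ c : Y ⧸ PJ cs h T X J, φ c.out =
      ∑ d ∈ Finset.univ.filter (fun d : Y ⧸ RGD.B cs h T X => MinP R J d.out), φ d.out := by
  symm
  refine Finset.sum_bij (fun d _ => (QuotientGroup.mk d.out : Y ⧸ PJ cs h T X J)) (fun _ _ => Finset.mem_univ _)
    (fun d hd e he hde => ?_) (fun c _ => ?_) (fun d hd => ?_)
  · simp only [Finset.mem_filter, Finset.mem_univ, true_and] at hd he
    have h1 : d.out⁻¹ * e.out ∈ PJ cs h T X J := QuotientGroup.eq.1 hde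
    have h2 : d.out⁻¹ * e.out ∈ RGD.B cs h T X := MinP.mem_B R hd h1 (by rwa [mul_inv_cancel_left])
    rw [← d.out_eq', ← e.out_eq']
    exact QuotientGroup.eq.2 h2
  · obtain ⟨x, hx, hm⟩ := exists_minP R hG J c.out
    set d : Y ⧸ RGD.B cs h T X := QuotientGroup.mk (c.out * x) with hd
    have h1 : (c.out * x)⁻¹ * d.out ∈ RGD.B cs h T X := QuotientGroup.eq.1 (by rw [hd]; exact (Quotient.out_eq' _).symm)
    have h2 : d.out = c.out * x * ((c.out * x)⁻¹ * d.out) := by group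
    refine ⟨d, ?_, ?_⟩
    · simp only [Finset.mem_filter, Finset.mem_univ, true_and]
      rw [h2]
      exact hm.mul_right R h1
    · conv_rhs => rw [← c.out_eq']
      refine QuotientGroup.eq.2 ?_
      rw [h2]
      have h3 : (c.out * x * ((c.out * x)⁻¹ * d.out))⁻¹ * c.out = ((c.out * x)⁻¹ * d.out)⁻¹ * x⁻¹ := by group
      rw [h3]
      exact mul_mem (inv_mem (B_le_PJ h1)) (inv_mem hx)
  · have h1 : d.out⁻¹ * (QuotientGroup.mk d.out : Y ⧸ PJ cs h T X J).out ∈ PJ cs h T X J :=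
      QuotientGroup.eq.1 (Quotient.out_eq' _).symm
    rw [← hφ d.out _ h1, mul_inv_cancel_left]

end Cfsg.Agent.H769.Kaw
end

-- part: H769/Kaw/Comb
section
/-!
# The element `w = w_K w₀` (S4842, K-ALL part (A); helper769)

`Dset w = {j | w α_j > 0}`, `Sset K w` = the support of the roots `w⁻¹ α_k`, `k ∈ K`.

* `eq_of_sset` : if `Sset K w = Dset w` then `w = w_K w₀`;
* `sset_winf` : `Sset K (w_K w₀) = Dset (w_K w₀)`;
* `card_dset` : then `|Dset w| = |K|`.
-/

set_option autoImplicit false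
set_option linter.unusedSectionVars false

namespace Cfsg.Agent.H769.Kaw

open CoxeterSystem Cfsg.Agent.ChevalleyStructure.CoxeterGeom Cfsg.Agent.Tits.Roots Cfsg.Agent.Tits.Core
  Cfsg.Agent.Tits.Exchange Cfsg.Agent.Nodes.Reps Cfsg.Agent.Nodes.BNOf Cfsg.Agent.Nodes.StabComb
  Cfsg.Agent.Nodes.Comb Cfsg.Agent.Nodes.Bruhat Cfsg.Agent.Nodes.OppDec Cfsg.Agent.Nodes.LeviDec

variable {I W : Type*} [Fintype I] [DecidableEq I] [Group W] {M : CoxeterMatrix I}
  (cs : CoxeterSystem M W) {A : I → I → ℤ} (h : IsCartan M A)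

/-- the simple roots made positive by `w` -/
def Dset (w : W) : Set I := {j | 0 ≤ rep cs h w (sr j)}

/-- the support of `w⁻¹ K` -/
def Sset (K : Set I) (w : W) : Set I := {j | ∃ k ∈ K, rep cs h w⁻¹ (sr k) j ≠ 0}

variable {cs h}

theorem rep_apply_sum (w : W) (x : I → ℤ) (m : I) : rep cs h w x m = ∑ k, x k * rep cs h w (sr k) m := by
  conv_lhs => rw [eq_sum_sr x, map_sum, Finset.sum_apply]
  exact Finset.sum_congr rfl fun k _ => by rw [map_smul, Pi.smul_apply, smul_eq_mul]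

/-- `w⁻¹ K ⊆ Φ_J` if and only if the support is in `J` -/
theorem sset_subset_iff {K J : Set I} {w : W} :
    Sset cs h K w ⊆ J ↔ ∀ k ∈ K, rep cs h w⁻¹ (sr k) ∈ RootsJ cs h J := by
  constructor
  · intro hs k hk
    refine ⟨(isRoot_sr cs h k).act _, fun m hm => ?_⟩
    by_contra hne
    exact hm (hs ⟨k, hk, hne⟩)
  · rintro hs m ⟨k, hk, hne⟩
    by_contra hm
    exact hne ((hs k hk).2 m hm)

/-- if `w⁻¹ K ⊆ Φ_J` then `w⁻¹ Φ_K ⊆ Φ_J` -/
theorem supp_of_sset {K J : Set I} {w : W} (hs : ∀ k ∈ K, rep cs h w⁻¹ (sr k) ∈ RootsJ cs h J) {x : I → ℤ}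
    (hx : ∀ k, k ∉ K → x k = 0) (m : I) (hm : m ∉ J) : rep cs h w⁻¹ x m = 0 := by
  rw [rep_apply_sum]
  refine Finset.sum_eq_zero fun k _ => ?_
  by_cases hk : k ∈ K
  · rw [(hs k hk).2 m hm, mul_zero]
  · rw [hx k hk, zero_mul]

theorem rep_nonpos_of_supp {J : Set I} {w : W} (hw : ∀ i ∈ J, 0 ≤ rep cs h w (sr i)) {x : I → ℤ} (h0 : x ≤ 0)
    (hx : ∀ k, k ∉ J → x k = 0) : rep cs h w x ≤ 0 := by
  have h1 := rep_nonneg_of_supp (cs := cs) (h := h) hw (neg_nonneg.2 h0)
    (fun k hk => by rw [Pi.neg_apply, hx k hk, neg_zero])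
  rw [map_neg] at h1
  exact neg_nonneg.1 h1

/-- a positive root below a simple root -/
theorem eq_sr_of_le {x : I → ℤ} (hx : IsRoot cs h x) (h0 : 0 ≤ x) {k : I} (hk : x ≤ sr k) : x = sr k := by
  refine hx.eq_sr h0 k fun m hm => le_antisymm ?_ (h0 m)
  have := hk m
  rwa [sr_ne hm] at this

/-- the simple roots of `D` in the support are mapped to simple roots of `K` -/
theorem exists_simple {K : Set I} {w : W} (hs : Sset cs h K w ⊆ Dset cs h w) {k : I} (hk : k ∈ K) {j : I}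
    (hj : rep cs h w⁻¹ (sr k) j ≠ 0) : rep cs h w (sr j) = sr k := by
  have h1 := sset_subset_iff.1 hs k hk
  have hD : ∀ i ∈ Dset cs h w, 0 ≤ rep cs h w (sr i) := fun i hi => hi
  have h2 : 0 ≤ rep cs h w⁻¹ (sr k) := by
    rcases h1.1.pos_or_neg with h3 | h3
    · exact h3
    · exfalso
      have h4 := rep_nonpos_of_supp (cs := cs) (h := h) hD h3 h1.2
      rw [rep_apply_inv] at h4
      exact (isRoot_sr cs h k).not_pos_neg (sr_nonneg k) h4
  have hjD : j ∈ Dset cs h w := hs ⟨k, hk, hj⟩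
  refine eq_sr_of_le ((isRoot_sr cs h j).act w) hjD fun m => ?_
  have h5 : (sr k : I → ℤ) m = ∑ i, rep cs h w⁻¹ (sr k) i * rep cs h w (sr i) m := by
    rw [← rep_apply_sum, rep_apply_inv]
  rw [h5]
  have h6 : ∀ i ∈ Finset.univ, 0 ≤ rep cs h w⁻¹ (sr k) i * rep cs h w (sr i) m := by
    intro i _
    by_cases hi : i ∈ Dset cs h w
    · exact mul_nonneg (h2 i) (hD i hi m)
    · rw [h1.2 i hi, zero_mul]
  refine le_trans ?_ (Finset.single_le_sum h6 (Finset.mem_univ j))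
  have h7 : 0 < rep cs h w⁻¹ (sr k) j := lt_of_le_of_ne (h2 j) (Ne.symm hj)
  have h7' : 1 ≤ rep cs h w⁻¹ (sr k) j := h7
  have h8 := hD j hjD m
  rw [Pi.zero_apply] at h8
  nlinarith only [h7, h8]

theorem eq_w0_of_nonpos [Finite W] {v : W} (hv : ∀ j, rep cs h v (sr j) ≤ 0) : v = w0 cs := by
  have h1 : w0 cs * v = 1 := by
    apply eq_one_of_nonneg cs h
    intro j
    rw [rep_mul_apply]
    exact rep_w0_nonneg ((isRoot_sr cs h j).act v) (hv j)
  calc v = (w0 cs)⁻¹ * (w0 cs * v) := by group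
    _ = w0 cs := by rw [h1, mul_one, w0_inv]

theorem longest_wJ [Finite W] (K : Set I) : IsLongest cs K (wJ cs K) := isLongest_wJ cs K

/-- **uniqueness** -/
theorem eq_of_sset [Finite W] {K : Set I} {w : W} (hs : Sset cs h K w = Dset cs h w) : w = wJ cs K * w0 cs := by
  have hL := longest_wJ (cs := cs) K
  have h1 : wJ cs K * w = w0 cs := by
    apply eq_w0_of_nonpos (cs := cs) (h := h)
    intro j
    rw [rep_mul_apply]
    by_cases hj : j ∈ Dset cs h w
    · have hj' := hj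
      rw [← hs] at hj'
      obtain ⟨k, hk, hne⟩ := hj'
      rw [exists_simple hs.le hk hne]
      exact rep_longest_nonpos hL (sr_mem_PosJ hk)
    · have h2 : rep cs h w (sr j) ≤ 0 := (((isRoot_sr cs h j).act w).pos_or_neg).resolve_left hj
      have hr : IsRoot cs h (-(rep cs h w (sr j))) := ((isRoot_sr cs h j).act w).neg
      rcases mem_PosJ_or_NotJ K hr (neg_nonneg.2 h2) with h3 | h3
      · exfalso
        have h4 := supp_of_sset (sset_subset_iff.1 hs.le) (x := -(rep cs h w (sr j))) h3.2.2 j hj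
        rw [map_neg, rep_inv_apply, Pi.neg_apply, sr_self] at h4
        omega
      · have h4 := (NotJ.act hL.1 h3).2.1
        rw [map_neg] at h4
        exact neg_nonneg.1 h4
  rw [← h1, ← mul_assoc, hL.mul_self, one_mul]

variable [Finite W]

/-- positive roots made positive by `w_K w₀` -/
theorem winf_pos {K : Set I} {x : I → ℤ} (hx : IsRoot cs h x) (h0 : 0 ≤ x)
    (hp : 0 ≤ rep cs h (wJ cs K * w0 cs) x) : rep cs h (wJ cs K * w0 cs) x ∈ PosJ cs h K := by
  have hL := longest_wJ (cs := cs) K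
  have h1 := rep_w0_nonpos hx h0
  rcases mem_PosJ_or_NotJ K (hx.act (w0 cs)).neg (neg_nonneg.2 h1) with h2 | h2
  · have h3 := RootsJ.act hL.1 (RootsJ.neg (PosJ_subset K h2))
    rw [neg_neg, ← rep_mul_apply] at h3
    exact ⟨h3.1, hp, h3.2⟩
  · exfalso
    have h3 := (NotJ.act hL.1 h2).2.1
    rw [map_neg, ← rep_mul_apply] at h3
    exact (hx.act _).not_pos_neg hp (neg_nonneg.1 h3)

theorem winf_NotJ {K : Set I} {x : I → ℤ} (hx : x ∈ NotJ cs h (Dset cs h (wJ cs K * w0 cs))) :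
    rep cs h (wJ cs K * w0 cs) x ∈ NotNJ cs h K := by
  have hL := longest_wJ (cs := cs) K
  obtain ⟨hr, h0, j, hj, hj0⟩ := hx
  have h1 : -(rep cs h (w0 cs) (sr j)) ∈ NotJ cs h K := by
    rcases mem_PosJ_or_NotJ K ((isRoot_sr cs h j).act (w0 cs)).neg
      (neg_nonneg.2 (rep_w0_nonpos (isRoot_sr cs h j) (sr_nonneg j))) with h2 | h2
    · exfalso
      apply hj
      have h3 := rep_longest_nonpos hL h2
      rw [map_neg, ← rep_mul_apply] at h3
      exact neg_nonpos.1 h3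
    · exact h2
  obtain ⟨-, -, m, hm, hm0⟩ := h1
  have h2 : -(rep cs h (w0 cs) x) ∈ NotJ cs h K := by
    refine ⟨(hr.act _).neg, neg_nonneg.2 (rep_w0_nonpos hr h0), m, hm, ?_⟩
    rw [Pi.neg_apply, rep_apply_sum, ← Finset.sum_neg_distrib]
    have h3 : ∀ i ∈ Finset.univ, 0 ≤ -(x i * rep cs h (w0 cs) (sr i) m) := by
      intro i _
      have h4 := rep_w0_nonpos (isRoot_sr cs h i) (sr_nonneg i) m
      rw [Pi.zero_apply] at h4
      have h5 := h0 i
      rw [Pi.zero_apply] at h5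
      nlinarith only [h4, h5]
    refine lt_of_lt_of_le ?_ (Finset.single_le_sum h3 (Finset.mem_univ j))
    rw [Pi.neg_apply] at hm0
    nlinarith only [h, hj0, hm0]
  have h3 := NotJ.act hL.1 h2
  rw [map_neg, ← rep_mul_apply] at h3
  exact h3

theorem winf_PosJ {K : Set I} {x : I → ℤ} (hx : x ∈ PosJ cs h (Dset cs h (wJ cs K * w0 cs))) :
    rep cs h (wJ cs K * w0 cs) x ∈ PosJ cs h K :=
  winf_pos hx.1 hx.2.1 (rep_nonneg_of_supp (J := Dset cs h (wJ cs K * w0 cs)) (fun _ hi => hi) hx.2.1 hx.2.2)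

theorem winf_inv_NotNJ {K : Set I} {x : I → ℤ} (hx : x ∈ NotNJ cs h K) :
    rep cs h (wJ cs K * w0 cs)⁻¹ x ∈ NotJ cs h (Dset cs h (wJ cs K * w0 cs)) := by
  have hL := longest_wJ (cs := cs) K
  have hr := NotNJ.isRoot hx
  have h1 : rep cs h (wJ cs K)⁻¹ x ∈ NotNJ cs h K := NotNJ.act (inv_mem hL.1) hx
  have h2 : 0 ≤ rep cs h (wJ cs K * w0 cs)⁻¹ x := by
    rw [mul_inv_rev, rep_mul_apply, w0_inv]
    exact rep_w0_nonneg (NotNJ.isRoot h1) (neg_nonneg.1 h1.2.1)
  rcases mem_PosJ_or_NotJ (Dset cs h (wJ cs K * w0 cs)) (hr.act _) h2 with h3 | h3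
  · exfalso
    have h4 := winf_PosJ h3
    rw [rep_apply_inv] at h4
    exact hr.not_pos_neg h4.2.1 (neg_nonneg.1 hx.2.1)
  · exact h3

theorem winf_inv_PosJ {K : Set I} {x : I → ℤ} (hx : x ∈ PosJ cs h K) :
    rep cs h (wJ cs K * w0 cs)⁻¹ x ∈ PosJ cs h (Dset cs h (wJ cs K * w0 cs)) := by
  have hL := longest_wJ (cs := cs) K
  have h1 : rep cs h (wJ cs K)⁻¹ x ≤ 0 := by
    rw [hL.inv_eq]
    exact rep_longest_nonpos hL hx
  have h2 : 0 ≤ rep cs h (wJ cs K * w0 cs)⁻¹ x := by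
    rw [mul_inv_rev, rep_mul_apply, w0_inv]
    exact rep_w0_nonneg (hx.1.act _) h1
  rcases mem_PosJ_or_NotJ (Dset cs h (wJ cs K * w0 cs)) (hx.1.act _) h2 with h3 | h3
  · exact h3
  · exfalso
    have h4 := winf_NotJ h3
    rw [rep_apply_inv] at h4
    exact hx.1.not_pos_neg hx.2.1 (neg_nonneg.1 h4.2.1)

theorem sset_winf (K : Set I) : Sset cs h K (wJ cs K * w0 cs) = Dset cs h (wJ cs K * w0 cs) := by
  apply Set.Subset.antisymm
  · rw [sset_subset_iff]
    intro k hk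
    exact PosJ_subset _ (winf_inv_PosJ (sr_mem_PosJ hk))
  · intro j hj
    have h1 := winf_pos (isRoot_sr cs h j) (sr_nonneg j) hj
    by_contra hcon
    have h2 : ∀ k ∈ K, rep cs h (wJ cs K * w0 cs)⁻¹ (sr k) j = 0 := by
      intro k hk
      by_contra hne
      exact hcon ⟨k, hk, hne⟩
    have h3 : (sr j : I → ℤ) j = rep cs h (wJ cs K * w0 cs)⁻¹ (rep cs h (wJ cs K * w0 cs) (sr j)) j := by
      rw [rep_inv_apply]
    rw [rep_apply_sum (wJ cs K * w0 cs)⁻¹, sr_self, Finset.sum_eq_zero] at h3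
    · exact absurd h3 one_ne_zero
    · intro k _
      by_cases hk : k ∈ K
      · rw [h2 k hk, mul_zero]
      · rw [h1.2.2 k hk, zero_mul]

theorem ncard_dset (K : Set I) : (Dset cs h (wJ cs K * w0 cs)).ncard = K.ncard := by
  set w := wJ cs K * w0 cs with hw
  have hs : Sset cs h K w = Dset cs h w := sset_winf K
  have h1 : ∀ j ∈ Dset cs h w, ∃ k ∈ K, rep cs h w (sr j) = sr k := by
    intro j hj
    rw [← hs] at hj
    obtain ⟨k, hk, hne⟩ := hj
    exact ⟨k, hk, exists_simple hs.le hk hne⟩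
  choose! σ hσ hσ' using h1
  have hinj : ∀ {i j : I}, (sr i : I → ℤ) = sr j → i = j := by
    intro i j hij
    by_contra hne
    have := congrFun hij i
    rw [sr_self, sr_ne hne] at this
    exact absurd this one_ne_zero
  refine Set.ncard_congr (fun j _ => σ j) (fun j hj => hσ j hj) (fun i j hi hj hij => ?_) fun k hk => ?_
  · have h2 : rep cs h w (sr i) = rep cs h w (sr j) := by
      rw [hσ' i hi, hσ' j hj]
      exact congrArg sr hij
    have h3 := congrArg (rep cs h w⁻¹) h2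
    rw [rep_inv_apply, rep_inv_apply] at h3
    exact hinj h3
  · have h2 : rep cs h w⁻¹ (sr k) ≠ 0 := ((isRoot_sr cs h k).act _).ne_zero
    obtain ⟨j, hj⟩ := Function.ne_iff.1 h2
    have hjD : j ∈ Dset cs h w := hs ▸ ⟨k, hk, hj⟩
    refine ⟨j, hjD, ?_⟩
    have h3 := exists_simple hs.le hk hj
    rw [hσ' j hjD] at h3
    exact hinj h3

end Cfsg.Agent.H769.Kaw
end

-- part: H769/Kaw/Step
section
/-!
# The sums over conjugates of the radicals on cuspidal vectors (S4842, K-ALL part (A); helper769)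

* `sm_eq_zero` : `∑ v ∈ g V_J g⁻¹, v f = 0` if `g` is in a cell `w` with `w⁻¹ K ⊄ Φ_J`;
* `indep` : if `w⁻¹ K ⊆ Φ_J` and `w J > 0` then `|U_J| ∑ v ∈ g V_J g⁻¹, v f` does not depend on `J`.
-/

set_option autoImplicit false
set_option linter.unusedSectionVars false

namespace Cfsg.Agent.H769.Kaw

open CoxeterSystem Cfsg.Agent.ChevalleyStructure.CoxeterGeom Cfsg.Agent.Tits.Roots Cfsg.Agent.Tits.Core
  Cfsg.Agent.Tits.Exchange Cfsg.Agent.Nodes.Reps Cfsg.Agent.Nodes.BNOf Cfsg.Agent.Nodes.StabComb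
  Cfsg.Agent.Nodes.Comb Cfsg.Agent.Nodes.Bruhat Cfsg.Agent.Nodes.OppDec Cfsg.Agent.Nodes.LeviDec
  Cfsg.Agent.Nodes.CardSup

variable {I W Y : Type*} [Fintype I] [DecidableEq I] [Group W] [Group Y] {M : CoxeterMatrix I}
  {cs : CoxeterSystem M W} {A : I → I → ℤ} {h : IsCartan M A} {p : ℕ} {T : Subgroup Y} {n : I → Y}
  {X : (I → ℤ) → Subgroup Y}

variable (R : RGD cs h p T n X)

include R

theorem cj_VJ_mul {J : Set I} {x : Y} (hx : x ∈ PJ cs h T X J) (g : Y) :
    cj (g * x) (VJ cs h X J) = cj g (VJ cs h X J) := by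
  rw [cj_mul, cj_of_normalizer (PJ_le_normalizer_VJ R J hx)]

variable {V : Type*} [AddCommGroup V] [DistribMulAction Y V]

theorem fix_smul {K : Set I} {f : V} (hf : ∀ v ∈ VJ cs h X K, v • f = f) {x : Y} (hx : x ∈ PJ cs h T X K) :
    ∀ v ∈ VJ cs h X K, v • x • f = x • f := by
  intro v hv
  have h1 : x⁻¹ * v * x ∈ VJ cs h X K := by
    have h2 := (Subgroup.mem_normalizer_iff.1 (PJ_le_normalizer_VJ R K (inv_mem hx))) v
    rw [inv_inv] at h2
    exact h2.1 hv
  have h3 : v • x • f = x • (x⁻¹ * v * x) • f := by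
    rw [← mul_smul, ← mul_smul]
    congr 1
    group
  rw [h3, hf _ h1]

omit R in
theorem fix_sm [Fintype Y] {H N : Subgroup Y} (hH : H ≤ Subgroup.normalizer (N : Set Y)) {f : V}
    (hf : ∀ v ∈ N, v • f = f) : ∀ v ∈ N, v • sm H f = sm H f := by
  classical
  intro v hv
  rw [sm_def, Finset.smul_sum]
  refine Finset.sum_congr rfl fun x hx => ?_
  have hx' := (Finset.mem_filter.1 hx).2
  have h1 : x⁻¹ * v * x ∈ N := by
    have h2 := (Subgroup.mem_normalizer_iff.1 (hH (inv_mem hx'))) v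
    rw [inv_inv] at h2
    exact h2.1 hv
  have h3 : v • x • f = x • (x⁻¹ * v * x) • f := by
    rw [← mul_smul, ← mul_smul]
    congr 1
    group
  rw [h3, hf _ h1]

/-- **the sum is zero on cuspidal vectors** -/
theorem sm_eq_zero [Finite W] [Fintype Y] {K : Finset I} {J : Set I} {w : W} {g : Y} (hw : Cell R.nsys cs h X w g)
    (hn : ¬ ∀ k ∈ K, rep cs h w⁻¹ (sr k) ∈ RootsJ cs h J) {f : V}
    (hf : ∀ v ∈ VJ cs h X (K : Set I), v • f = f)
    (hc : ∀ K' : Finset I, K' ⊂ K → ∀ m : V, (∀ v ∈ VJ cs h X (K' : Set I), v • m = m) → m = 0) :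
    sm (cj g (VJ cs h X J)) f = 0 := by
  classical
  obtain ⟨b₁, hb₁, k, hk, b₂, hb₂, rfl⟩ := hw
  obtain ⟨v, hv, hmin⟩ := exists_min (cs := cs) w⁻¹ (K : Set I)
  have h3 : ∀ i ∈ (K : Set I), 0 ≤ rep cs h (w⁻¹ * v) (sr i) := fun i hi => nonneg_of_min cs h hv hmin hi
  obtain ⟨k1, hk1⟩ := exists_rp cs R.nsys v
  have hk' : Rp cs R.nsys (v⁻¹ * w) (k1⁻¹ * k) := hk1.inv.mul hk
  set w' := v⁻¹ * w with hw'
  have hwi : w'⁻¹ = w⁻¹ * v := by rw [hw', mul_inv_rev, inv_inv]
  rw [← hwi] at h3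
  have e1 : cj (b₁ * k * b₂) (VJ cs h X J) = cj (b₁ * k1) (cj (k1⁻¹ * k) (VJ cs h X J)) := by
    rw [cj_VJ_mul R (B_le_PJ hb₂), ← cj_mul]
    congr 1
    group
  have hx : b₁ * k1 ∈ PJ cs h T X (K : Set I) :=
    mul_mem (B_le_PJ hb₁) (LJ_le_PJ (rp_mem_LJ R hv hk1))
  rw [e1, sm_cj]
  have hf' := fix_smul R hf (inv_mem hx)
  set f' := (b₁ * k1)⁻¹ • f with hf'def
  suffices hz : sm (cj (k1⁻¹ * k) (VJ cs h X J)) f' = 0 by rw [hz, smul_zero]
  -- the set `K'`
  set K' : Finset I := K.filter (fun i => rep cs h w'⁻¹ (sr i) ∈ RootsJ cs h J) with hK'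
  set E : Subgroup Y := RGD.Sup X (PosJ cs h (K : Set I) ∩ NotJ cs h (K' : Set I)) with hE
  have hroot : ∀ x ∈ PosJ cs h (K : Set I) ∩ NotJ cs h (K' : Set I), rep cs h w'⁻¹ x ∈ NotJ cs h J := by
    rintro x ⟨hx1, hx2⟩
    obtain ⟨i, hi, hi0⟩ := hx2.2.2
    have hiK : i ∈ K := by
      by_contra hcon
      have := hx1.2.2 i (by simpa using hcon)
      omega
    have h4 : rep cs h w'⁻¹ (sr i) ∉ RootsJ cs h J := by
      intro hcon
      exact hi (by simpa only [hK', hiK, _root_.Finset.coe_filter, _root_.Set.mem_ofPred_eq, _root_.true_and] using hcon)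
    have h5 : ∃ m, m ∉ J ∧ rep cs h w'⁻¹ (sr i) m ≠ 0 := by
      by_contra hcon
      push Not at hcon
      exact h4 ⟨(isRoot_sr cs h i).act _, hcon⟩
    obtain ⟨m, hmJ, hm⟩ := h5
    have h6 : 0 < rep cs h w'⁻¹ (sr i) m := lt_of_le_of_ne (h3 i (by simpa using hiK) m) (Ne.symm hm)
    refine ⟨hx1.1.act _, rep_nonneg_of_supp h3 hx1.2.1 hx1.2.2, m, hmJ, ?_⟩
    rw [rep_apply_sum]
    have h7 : ∀ l ∈ Finset.univ, 0 ≤ x l * rep cs h w'⁻¹ (sr l) m := by
      intro l _
      by_cases hl : l ∈ (K : Set I)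
      · exact mul_nonneg (hx1.2.1 l) (h3 l hl m)
      · rw [hx1.2.2 l hl, zero_mul]
    exact lt_of_lt_of_le (mul_pos hi0 h6) (Finset.single_le_sum h7 (Finset.mem_univ i))
  have hEle : E ≤ cj (k1⁻¹ * k) (VJ cs h X J) := by
    refine RGD.Sup_le fun x hx0 => ?_
    have h4 := hroot x hx0
    have h5 := R.conj_rp hk' h4.1
    rw [rep_apply_inv] at h5
    rw [← h5]
    exact cj_mono _ (RGD.le_Sup h4)
  refine sm_eq_zero_of_le hEle ?_
  -- `sm E f'` is fixed by `V_K'`
  have hEL : E ≤ LJ cs h T X (K : Set I) := RGD.Sup_le fun x hx0 => X_le_LJ (PosJ_subset _ hx0.1)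
  have hK'ss : K' ⊂ K := by
    refine Finset.ssubset_iff_subset_ne.2 ⟨Finset.filter_subset _ _, fun he => hn ?_⟩
    intro i hi
    have h4 : ∀ l ∈ (K : Set I), rep cs h w'⁻¹ (sr l) ∈ RootsJ cs h J := by
      intro l hl
      have hl' : l ∈ K := by simpa using hl
      rw [← he] at hl'
      exact (Finset.mem_filter.1 hl').2
    have h5 : rep cs h v⁻¹ (sr i) ∈ RootsJ cs h (K : Set I) :=
      RootsJ.act (inv_mem hv) (PosJ_subset _ (sr_mem_PosJ (by simpa using hi)))
    have h6 : rep cs h w⁻¹ (sr i) = rep cs h w'⁻¹ (rep cs h v⁻¹ (sr i)) := by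
      rw [← rep_mul_apply, hwi, mul_assoc, mul_inv_cancel, mul_one]
    rw [h6]
    exact ⟨h5.1.act _, fun m hm => supp_of_sset h4 h5.2 m hm⟩
  refine hc K' hK'ss _ ?_
  have hstab : VJ cs h X (K' : Set I) ≤ MulAction.stabilizer Y (sm E f') := by
    refine RGD.Sup_le fun x hx0 u hu => ?_
    rw [MulAction.mem_stabilizer_iff]
    rcases mem_PosJ_or_NotJ (K : Set I) hx0.1 hx0.2.1 with h4 | h4
    · exact smul_sm_of_mem (RGD.le_Sup (S := PosJ cs h (K : Set I) ∩ NotJ cs h (K' : Set I)) ⟨h4, hx0⟩ hu) f'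
    · exact fix_sm (le_trans hEL (LJ_le_normalizer_VJ R (K : Set I))) hf' u (RGD.le_Sup h4 hu)
  exact fun u hu => MulAction.mem_stabilizer_iff.1 (hstab hu)

theorem card_U [Finite W] [Finite Y] (J : Set I) : Nat.card (RGD.Sup X (RGD.Pos cs h)) =
    Nat.card (UJ cs h X J) * Nat.card (VJ cs h X J) :=
  card_mul_of_disjoint (UJ_le_U J) (VJ_le_U J) (fun _ hg => (mem_U_iff R).1 hg) (UJ_inf_VJ R J)

/-- **independence of `J`** -/
theorem indep [Finite W] [Fintype Y] {K J J' : Set I} (hJJ : J ⊆ J') {w : W} {g : Y}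
    (hw : Cell R.nsys cs h X w g) (hJ' : ∀ j ∈ J', 0 ≤ rep cs h w (sr j))
    (hs : ∀ k ∈ K, rep cs h w⁻¹ (sr k) ∈ RootsJ cs h J) {f : V} (hf : ∀ v ∈ VJ cs h X K, v • f = f) :
    Nat.card (UJ cs h X J) • sm (cj g (VJ cs h X J)) f =
      Nat.card (UJ cs h X J') • sm (cj g (VJ cs h X J')) f := by
  obtain ⟨b₁, hb₁, k, hk, b₂, hb₂, rfl⟩ := hw
  rw [cj_VJ_mul R (B_le_PJ hb₂), cj_VJ_mul R (B_le_PJ hb₂), cj_mul, cj_mul, sm_cj b₁, sm_cj b₁]
  have hf' := fix_smul R hf (inv_mem (B_le_PJ hb₁))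
  set f' := b₁⁻¹ • f with hf'def
  set E : Subgroup Y := RGD.Sup X (PosJ cs h J' ∩ NotJ cs h J) with hE
  have hEU : E ≤ UJ cs h X J' := RGD.Sup_mono fun _ hx => hx.1
  have hEV : E ≤ VJ cs h X J := RGD.Sup_mono fun _ hx => hx.2
  have hVV : VJ cs h X J' ≤ VJ cs h X J := RGD.Sup_mono fun x hx => by
    obtain ⟨hr, h0, m, hm, hm0⟩ := hx
    exact ⟨hr, h0, m, fun hmJ => hm (hJJ hmJ), hm0⟩
  have hEL : E ≤ LJ cs h T X J' := RGD.Sup_le fun x hx0 => X_le_LJ (PosJ_subset _ hx0.1)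
  have hmem : ∀ x ∈ VJ cs h X J, ∃ a ∈ VJ cs h X J', ∃ b ∈ E, x = a * b := by
    intro x hx
    have h2 : VJ cs h X J ≤ VJ cs h X J' ⊔ E := by
      refine RGD.Sup_le fun y hy => ?_
      rcases mem_PosJ_or_NotJ J' hy.1 hy.2.1 with h1 | h1
      · exact le_trans (RGD.le_Sup (S := PosJ cs h J' ∩ NotJ cs h J) ⟨h1, hy⟩) le_sup_right
      · exact le_trans (RGD.le_Sup h1) le_sup_left
    have h1 : x ∈ ((VJ cs h X J' ⊔ E : Subgroup Y) : Set Y) := h2 hx
    rw [Subgroup.coe_mul_of_right_le_normalizer_left _ _ (le_trans hEL (LJ_le_normalizer_VJ R J')),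
      Set.mem_mul] at h1
    obtain ⟨a, ha, b, hb, e⟩ := h1
    exact ⟨a, ha, b, hb, e.symm⟩
  have hdis : VJ cs h X J' ⊓ E = ⊥ := by
    rw [eq_bot_iff, ← UJ_inf_VJ R J', inf_comm (UJ cs h X J')]
    exact inf_le_inf_left _ hEU
  -- the sum
  have key : sm (cj k (VJ cs h X J)) f' = Nat.card E • sm (cj k (VJ cs h X J')) f' := by
    have h1 : sm (cj k (VJ cs h X J)) f' = Nat.card (cj k E) • sm (cj k (VJ cs h X J')) f' := by
      refine sm_mul_of_fix (cj_mono k hVV) (cj_mono k hEV) (fun x hx1 hx2 => ?_) (fun x hx => ?_) ?_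
      · have h2 : k⁻¹ * x * k ∈ VJ cs h X J' ⊓ E := ⟨mem_cj.1 hx1, mem_cj.1 hx2⟩
        rw [hdis, Subgroup.mem_bot] at h2
        calc x = k * (k⁻¹ * x * k) * k⁻¹ := by group
          _ = 1 := by rw [h2]; group
      · obtain ⟨a, ha, b, hb, e⟩ := hmem _ (mem_cj.1 hx)
        refine ⟨k * a * k⁻¹, conj_mem_cj.2 ha, k * b * k⁻¹, conj_mem_cj.2 hb, ?_⟩
        calc x = k * (k⁻¹ * x * k) * k⁻¹ := by group
          _ = _ := by rw [e]; group
      · have h2 : cj k E ≤ VJ cs h X K := by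
          refine cj_Sup_le R hk (fun x hx => hx.1.1) fun x hx => ?_
          have h3 : 0 ≤ rep cs h w x := rep_nonneg_of_supp hJ' hx.1.2.1 hx.1.2.2
          rcases mem_PosJ_or_NotJ K (hx.1.1.act w) h3 with h4 | h4
          · exfalso
            obtain ⟨-, -, m, hm, hm0⟩ := hx.2
            have h5 := supp_of_sset hs h4.2.2 m hm
            rw [rep_inv_apply] at h5
            omega
          · exact h4
        exact fun x hx => hf' x (h2 hx)
    rwa [card_cj] at h1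
  have hcard : Nat.card (UJ cs h X J) * Nat.card E = Nat.card (UJ cs h X J') := by
    have h1 := card_U R J
    have h2 := card_U R J'
    have h3 : Nat.card (VJ cs h X J) = Nat.card (VJ cs h X J') * Nat.card E :=
      card_mul_of_disjoint hVV hEV hmem hdis
    have h4 : 0 < Nat.card (VJ cs h X J') := Nat.card_pos
    have h5 : Nat.card (UJ cs h X J) * Nat.card E * Nat.card (VJ cs h X J') =
        Nat.card (UJ cs h X J') * Nat.card (VJ cs h X J') := by
      rw [← h2, h1, h3]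
      ring
    exact Nat.eq_of_mul_eq_mul_right h4 h5
  rw [key, ← hcard, mul_smul, smul_comm b₁ (Nat.card E)]

end Cfsg.Agent.H769.Kaw
end

private theorem dce_4eee923316b9 : _root_.True := by
  try have : _root_.True := by simp only [_root_.Cfsg.Agent.Nodes.StabComb.RootsJ.congr_simp]
  try have : _root_.True := by simp only [_root_.Cfsg.Agent.H769.Kaw.MinP.congr_simp]
  exact _root_.True.intro
end

-- part: H769/Kaw/Main
section
set_option linter.all false
open scoped Cfsg.Agent.FastGrp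

/-!
# The Kawanaka element on cuspidal vectors (S4842, K-ALL part (A); helper769)

* `sum_coef` : the element with the coefficients `coef` as a sum over the parabolic subgroups;
* `kaw_cusp` : on a vector `f` fixed by `V_K`, cuspidal for `L_K`, it acts as
  `(-1)^|K| |U_K| ∑ u ∈ V_K, ∑ y ∈ V_K⁻, u y`.
-/

set_option autoImplicit false
set_option linter.unusedSectionVars false

namespace Cfsg.Agent.H769.Kaw

open CoxeterSystem Cfsg.Agent.ChevalleyStructure.CoxeterGeom Cfsg.Agent.Tits.Roots Cfsg.Agent.Tits.Core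
  Cfsg.Agent.Tits.Exchange Cfsg.Agent.Nodes.Reps Cfsg.Agent.Nodes.BNOf Cfsg.Agent.Nodes.StabComb
  Cfsg.Agent.Nodes.Comb Cfsg.Agent.Nodes.Bruhat Cfsg.Agent.Nodes.OppDec Cfsg.Agent.Nodes.LeviDec
  Cfsg.Agent.Nodes.CardSup Cfsg.Agent.H631.Kaw

variable {I W Y : Type*} [Fintype I] [DecidableEq I] [Group W] [Group Y] {M : CoxeterMatrix I}
  {cs : CoxeterSystem M W} {A : I → I → ℤ} {h : IsCartan M A} {p : ℕ} {T : Subgroup Y} {n : I → Y}
  {X : (I → ℤ) → Subgroup Y}

variable {V : Type*} [AddCommGroup V] [DistribMulAction Y V]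

open Classical in
/-- the element with the coefficients `coef` -/
theorem sum_coef [Fintype Y] (f : V) : ∑ g : Y, coef cs h T X g • g • f =
    ∑ J : Finset I, (-1 : ℤ) ^ J.card • Nat.card (UJ cs h X (J : Set I)) •
      ∑ c : Y ⧸ PJ cs h T X (J : Set I), sm (cj c.out (VJ cs h X (J : Set I))) f := by
  have h1 : ∀ (J : Finset I) (g : Y), (fixV cs h T X J g : ℤ) =
      ∑ c : Y ⧸ PJ cs h T X (J : Set I), if g ∈ cj c.out (VJ cs h X (J : Set I)) then (1 : ℤ) else 0 := by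
    intro J g
    rw [fixV, Nat.card_eq_fintype_card, Fintype.card_subtype, Finset.card_eq_sum_ones, Nat.cast_sum,
      Finset.sum_filter]
    refine Finset.sum_congr rfl fun c _ => ?_
    rw [Nat.cast_one]
    exact if_congr mem_cj.symm rfl rfl
  have h2 : ∀ (J : Finset I), ∑ g : Y, (fixV cs h T X J g : ℤ) • g • f =
      ∑ c : Y ⧸ PJ cs h T X (J : Set I), sm (cj c.out (VJ cs h X (J : Set I))) f := by
    intro J
    simp only [h1, Finset.sum_smul]
    rw [Finset.sum_comm]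
    refine Finset.sum_congr rfl fun c _ => ?_
    rw [sm_def, Finset.sum_filter]
    refine Finset.sum_congr rfl fun g _ => ?_
    split_ifs
    · rw [one_smul]
    · rw [zero_smul]
  simp only [coef, Finset.sum_smul]
  rw [Finset.sum_comm]
  refine Finset.sum_congr rfl fun J _ => ?_
  rw [← h2 J, Finset.smul_sum, Finset.smul_sum]
  refine Finset.sum_congr rfl fun g _ => ?_
  rw [mul_smul, mul_smul, natCast_zsmul]

variable (R : RGD cs h p T n X)

include R

/-- the coset sum over the parabolic subgroups of type `J` -/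
theorem coset_sum [Finite W] [Fintype Y] (hG : GG cs h T X = ⊤) (J : Set I) (f : V) [DecidablePred fun d : Y ⧸ RGD.B cs h T X => MinP R J d.out]
    [Fintype (Y ⧸ PJ cs h T X J)] [Fintype (Y ⧸ RGD.B cs h T X)] :
    ∑ c : Y ⧸ PJ cs h T X J, sm (cj c.out (VJ cs h X J)) f =
      ∑ d ∈ Finset.univ.filter (fun d : Y ⧸ RGD.B cs h T X => MinP R J d.out), sm (cj d.out (VJ cs h X J)) f := by
  classical
  have := sumQ R hG J (fun g => sm (cj g (VJ cs h X J)) f) fun g x hx => by rw [cj_VJ_mul R hx]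
  convert this

/-- the alternating sum for one coset of `B` -/
theorem local_sum [Finite W] [Fintype Y] {K : Finset I} {w : W} {g : Y} (hw : Cell R.nsys cs h X w g)
    [DecidablePred fun J : Finset I => MinP R (J : Set I) g] {f : V}
    (hf : ∀ v ∈ VJ cs h X (K : Set I), v • f = f)
    (hc : ∀ K' : Finset I, K' ⊂ K → ∀ m : V, (∀ v ∈ VJ cs h X (K' : Set I), v • m = m) → m = 0) :
    (w = wJ cs (K : Set I) * w0 cs →
      ∑ J ∈ Finset.univ.filter (fun J : Finset I => MinP R (J : Set I) g), (-1 : ℤ) ^ J.card •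
        Nat.card (UJ cs h X (J : Set I)) • sm (cj g (VJ cs h X (J : Set I))) f =
      (-1 : ℤ) ^ K.card • Nat.card (UJ cs h X (Dset cs h w)) • sm (cj g (VJ cs h X (Dset cs h w))) f) ∧
    (w ≠ wJ cs (K : Set I) * w0 cs →
      ∑ J ∈ Finset.univ.filter (fun J : Finset I => MinP R (J : Set I) g), (-1 : ℤ) ^ J.card •
        Nat.card (UJ cs h X (J : Set I)) • sm (cj g (VJ cs h X (J : Set I))) f = 0) := by
  classical
  set D : Finset I := (Dset cs h w).toFinset with hD
  set S : Finset I := (Sset cs h (K : Set I) w).toFinset with hS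
  have hDc : (D : Set I) = Dset cs h w := by rw [hD, Set.coe_toFinset]
  have hSc : (S : Set I) = Sset cs h (K : Set I) w := by rw [hS, Set.coe_toFinset]
  have hmin : ∀ J : Finset I, MinP R (J : Set I) g ↔ J ⊆ D := by
    intro J
    rw [← Finset.coe_subset, hDc]
    constructor
    · rintro ⟨w', hw', hp⟩ j hj
      rw [Cell.unique R hw hw']
      exact hp j hj
    · exact fun hJ => ⟨w, hw, fun j hj => hJ hj⟩
  have hzero : ∀ J : Finset I, ¬ S ⊆ J → sm (cj g (VJ cs h X (J : Set I))) f = 0 := by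
    intro J hJ
    refine sm_eq_zero R hw (fun hcon => hJ ?_) hf hc
    rw [← Finset.coe_subset, hSc]
    exact sset_subset_iff.2 fun k hk => hcon k (by simpa using hk)
  have hind : ∀ J : Finset I, S ⊆ J → J ⊆ D → Nat.card (UJ cs h X (J : Set I)) •
      sm (cj g (VJ cs h X (J : Set I))) f = Nat.card (UJ cs h X (Dset cs h w)) • sm (cj g (VJ cs h X (Dset cs h w))) f := by
    intro J hSJ hJD
    have hJD' : (J : Set I) ⊆ Dset cs h w := by rw [← hDc]; exact_mod_cast hJD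
    refine indep R hJD' hw (fun j hj => hj) ?_ hf
    refine sset_subset_iff.1 ?_
    rw [← hSc]
    exact_mod_cast hSJ
  set Ψ := Nat.card (UJ cs h X (Dset cs h w)) • sm (cj g (VJ cs h X (Dset cs h w))) f with hΨ
  have hred : ∑ J ∈ Finset.univ.filter (fun J : Finset I => MinP R (J : Set I) g), (-1 : ℤ) ^ J.card •
      Nat.card (UJ cs h X (J : Set I)) • sm (cj g (VJ cs h X (J : Set I))) f =
      ∑ J ∈ Finset.univ.filter (fun J : Finset I => S ⊆ J ∧ J ⊆ D), (-1 : ℤ) ^ J.card • Ψ := by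
    rw [Finset.sum_filter, Finset.sum_filter]
    refine Finset.sum_congr rfl fun J _ => ?_
    by_cases h1 : J ⊆ D
    · rw [if_pos ((hmin J).2 h1)]
      by_cases h2 : S ⊆ J
      · rw [if_pos ⟨h2, h1⟩, hind J h2 h1]
      · rw [if_neg fun hcon => h2 hcon.1, hzero J h2, smul_zero, smul_zero]
    · rw [if_neg fun hcon => h1 ((hmin J).1 hcon), if_neg fun hcon => h1 hcon.2]
  rw [hred]
  have hSD_iff : (S : Set I) = D ↔ w = wJ cs (K : Set I) * w0 cs := by
    rw [hSc, hDc]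
    constructor
    · exact eq_of_sset
    · rintro rfl
      exact sset_winf _
  constructor
  · intro hwe
    have h1 : S = D := by exact_mod_cast hSD_iff.2 hwe
    have h2 : Finset.univ.filter (fun J : Finset I => S ⊆ J ∧ J ⊆ D) = {D} := by
      ext J
      simp only [Finset.mem_filter, Finset.mem_univ, true_and, Finset.mem_singleton, h1]
      exact ⟨fun h3 => Finset.Subset.antisymm h3.2 h3.1, fun h3 => h3 ▸ ⟨Finset.Subset.refl _, Finset.Subset.refl _⟩⟩
    rw [h2, Finset.sum_singleton]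
    have h3 : D.card = K.card := by
      have h4 := ncard_dset (cs := cs) (h := h) (K : Set I)
      rw [← hwe, ← hDc, Set.ncard_coe_finset, Set.ncard_coe_finset] at h4
      exact h4
    rw [h3]
  · intro hwe
    by_cases h1 : S ⊆ D
    · exact sum_interval h1 (fun h2 => hwe (hSD_iff.1 (by rw [h2]))) Ψ
    · have h2 : Finset.univ.filter (fun J : Finset I => S ⊆ J ∧ J ⊆ D) = ∅ := by
        rw [Finset.filter_eq_empty_iff]
        exact fun J _ hJ => h1 (hJ.1.trans hJ.2)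
      rw [h2, Finset.sum_empty]

/-- the cosets of `B` in the cell of `w_K w₀` -/
theorem cell_sum [Finite W] [Fintype Y] (K : Set I) {k : Y} (hk : Rp cs R.nsys (wJ cs K * w0 cs) k)
    (φ : Y → V) (hφ : ∀ g, ∀ b ∈ RGD.B cs h T X, φ (g * b) = φ g)
    [DecidablePred fun d : Y ⧸ RGD.B cs h T X => Cell R.nsys cs h X (wJ cs K * w0 cs) d.out]
    [Fintype (Y ⧸ RGD.B cs h T X)] [DecidablePred (· ∈ VJ cs h X K)] :
    ∑ d ∈ Finset.univ.filter (fun d : Y ⧸ RGD.B cs h T X => Cell R.nsys cs h X (wJ cs K * w0 cs) d.out), φ d.out =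
      ∑ u ∈ Finset.univ.filter (· ∈ VJ cs h X K), φ (u * k) := by
  set w := wJ cs K * w0 cs with hw
  have hmk : ∀ g : Y, ∃ b ∈ RGD.B cs h T X, (QuotientGroup.mk g : Y ⧸ RGD.B cs h T X).out = g * b := by
    intro g
    have h1 : g⁻¹ * (QuotientGroup.mk g : Y ⧸ RGD.B cs h T X).out ∈ RGD.B cs h T X :=
      QuotientGroup.eq.1 (Quotient.out_eq' _).symm
    exact ⟨_, h1, by group⟩
  symm
  refine Finset.sum_bij (fun u _ => (QuotientGroup.mk (u * k) : Y ⧸ RGD.B cs h T X)) (fun u hu => ?_)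
    (fun u hu v hv huv => ?_) (fun d hd => ?_) fun u hu => ?_
  · simp only [Finset.mem_filter, Finset.mem_univ, true_and] at hu ⊢
    obtain ⟨b, hb, e⟩ := hmk (u * k)
    rw [e]
    exact ((cell_of_rp hk).mul_left (VJ_le_B K hu)).mul_right hb
  · simp only [Finset.mem_filter, Finset.mem_univ, true_and] at hu hv
    have h1 : (u * k)⁻¹ * (v * k) ∈ RGD.B cs h T X := QuotientGroup.eq.1 huv
    have h2 : u⁻¹ * v ∈ VJ cs h X K := mul_mem (inv_mem hu) hv
    have h3 : k⁻¹ * (u⁻¹ * v) * k ∈ RGD.B cs h T X := by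
      have : (u * k)⁻¹ * (v * k) = k⁻¹ * (u⁻¹ * v) * k := by group
      rwa [this] at h1
    have h4 := mem_PW_of_conj R hk (VJ_le_U K h2) h3
    have h5 : RGD.Sup X (PW cs h w⁻¹) ≤ UJ cs h X K := by
      refine RGD.Sup_mono fun x hx => ?_
      have h6 := winf_pos (cs := cs) (h := h) (K := K) (hx.1.act w⁻¹) hx.2.2 (by rw [← hw, rep_apply_inv]; exact hx.2.1)
      rwa [← hw, rep_apply_inv] at h6
    have h6 : u⁻¹ * v ∈ UJ cs h X K ⊓ VJ cs h X K := ⟨h5 h4, h2⟩
    rw [UJ_inf_VJ R K, Subgroup.mem_bot] at h6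
    exact inv_mul_eq_one.1 h6
  · simp only [Finset.mem_filter, Finset.mem_univ, true_and] at hd
    obtain ⟨b₁, hb₁, k', hk', b₂, hb₂, e⟩ := hd
    obtain ⟨t, ht, u, hu, rfl⟩ := (RGD.mem_B R).1 hb₁
    have h1 : t * u * t⁻¹ ∈ RGD.Sup X (RGD.Pos cs h) :=
      ((Subgroup.mem_normalizer_iff.1 ((RGD.T_le_normalizer_U R) ht)) u).1 hu
    obtain ⟨a, ha, v, hv, e2⟩ := (mem_U_iff R (J := K)).1 (inv_mem h1)
    have e3 : t * u * t⁻¹ = v⁻¹ * a⁻¹ := by
      rw [← mul_inv_rev, ← e2, inv_inv]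
    have h2 : k⁻¹ * a⁻¹ * k ∈ RGD.B cs h T X := by
      have h3 : cj k⁻¹ (UJ cs h X K) ≤ UJ cs h X (Dset cs h w) :=
        cj_Sup_le R hk.inv (fun x hx => hx.1) fun x hx => winf_inv_PosJ hx
      have h4 : k⁻¹ * a⁻¹ * k⁻¹⁻¹ ∈ cj k⁻¹ (UJ cs h X K) := conj_mem_cj.2 (inv_mem ha)
      rw [inv_inv] at h4
      exact RGD.U_le_B (UJ_le_U _ (h3 h4))
    have h3 : k⁻¹ * t * k ∈ T := by
      have := cj_T R hk.inv
      have h5 : k⁻¹ * t * k⁻¹⁻¹ ∈ cj k⁻¹ T := conj_mem_cj.2 ht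
      rwa [this, inv_inv] at h5
    have h4 : k⁻¹ * k' ∈ T := hk.unique hk'
    refine ⟨v⁻¹, by simpa using hv, ?_⟩
    rw [← d.out_eq']
    refine QuotientGroup.eq.2 ?_
    have e4 : (v⁻¹ * k)⁻¹ * d.out = (k⁻¹ * a⁻¹ * k) * (k⁻¹ * t * k) * (k⁻¹ * k') * b₂ := by
      rw [e]
      have e5 : t * u = v⁻¹ * a⁻¹ * t := by rw [← e3]; group
      rw [e5]
      group
    rw [e4]
    exact mul_mem (mul_mem (mul_mem h2 (RGD.T_le_B h3)) (RGD.T_le_B h4)) hb₂
  · obtain ⟨b, hb, e⟩ := hmk (u * k)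
    rw [e, hφ _ b hb]

/-- **The Kawanaka element on cuspidal vectors.** -/
theorem kaw_cusp [Finite W] [Fintype Y] (hG : GG cs h T X = ⊤) (K : Finset I) (f : V)
    (hf : ∀ v ∈ VJ cs h X (K : Set I), v • f = f)
    (hc : ∀ K' : Finset I, K' ⊂ K → ∀ m : V, (∀ v ∈ VJ cs h X (K' : Set I), v • m = m) → m = 0) :
    ∑ g : Y, coef cs h T X g • g • f = (-1 : ℤ) ^ K.card • Nat.card (UJ cs h X (K : Set I)) •
      sm (VJ cs h X (K : Set I)) (sm (VNJ cs h X (K : Set I)) f) := by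
  classical
  obtain ⟨k, hk⟩ := exists_rp cs R.nsys (wJ cs (K : Set I) * w0 cs)
  set w := wJ cs (K : Set I) * w0 cs with hw
  rw [sum_coef]
  have h1 : ∀ J : Finset I, ∑ c : Y ⧸ PJ cs h T X (J : Set I), sm (cj c.out (VJ cs h X (J : Set I))) f =
      ∑ d : Y ⧸ RGD.B cs h T X, if MinP R (J : Set I) d.out then sm (cj d.out (VJ cs h X (J : Set I))) f else 0 := by
    intro J
    rw [coset_sum R hG (J : Set I) f, Finset.sum_filter]
  simp only [h1, Finset.smul_sum]
  rw [Finset.sum_comm]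
  have h2 : ∀ d : Y ⧸ RGD.B cs h T X, ∑ J : Finset I, (-1 : ℤ) ^ J.card • Nat.card (UJ cs h X (J : Set I)) •
      (if MinP R (J : Set I) d.out then sm (cj d.out (VJ cs h X (J : Set I))) f else 0) =
      if Cell R.nsys cs h X w d.out then (-1 : ℤ) ^ K.card • Nat.card (UJ cs h X (Dset cs h w)) •
        sm (cj d.out (VJ cs h X (Dset cs h w))) f else 0 := by
    intro d
    obtain ⟨v, hv⟩ := (mem_GG R).1 (show d.out ∈ GG cs h T X by rw [hG]; exact Subgroup.mem_top _)
    have h3 := local_sum R hv hf hc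
    rw [Finset.sum_filter] at h3
    have h4 : ∑ J : Finset I, (-1 : ℤ) ^ J.card • Nat.card (UJ cs h X (J : Set I)) •
        (if MinP R (J : Set I) d.out then sm (cj d.out (VJ cs h X (J : Set I))) f else 0) =
        ∑ J : Finset I, if MinP R (J : Set I) d.out then (-1 : ℤ) ^ J.card •
          Nat.card (UJ cs h X (J : Set I)) • sm (cj d.out (VJ cs h X (J : Set I))) f else 0 := by
      refine Finset.sum_congr rfl fun J _ => ?_
      split_ifs
      · rfl
      · rw [smul_zero, smul_zero]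
    rw [h4]
    by_cases hvw : v = w
    · rw [h3.1 hvw, if_pos (hvw ▸ hv), hvw]
    · rw [h3.2 hvw, if_neg fun hcon => hvw (Cell.unique R hv hcon)]
  rw [Finset.sum_congr rfl fun d _ => h2 d, ← Finset.sum_filter]
  rw [cell_sum R (K : Set I) hk (fun g => (-1 : ℤ) ^ K.card • Nat.card (UJ cs h X (Dset cs h w)) •
    sm (cj g (VJ cs h X (Dset cs h w))) f) fun g b hb => by rw [cj_VJ_mul R (B_le_PJ hb)]]
  rw [← Finset.smul_sum, ← Finset.smul_sum]
  have hVN : cj k (VJ cs h X (Dset cs h w)) = VNJ cs h X (K : Set I) := by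
    apply le_antisymm
    · exact cj_Sup_le R hk (fun x hx => hx.1) fun x hx => winf_NotJ hx
    · rw [← cj_cj_inv k (VNJ cs h X (K : Set I))]
      exact cj_mono k (cj_Sup_le R hk.inv (fun x hx => NotNJ.isRoot hx) fun x hx => winf_inv_NotNJ hx)
  have hUU : cj k (UJ cs h X (Dset cs h w)) = UJ cs h X (K : Set I) := by
    apply le_antisymm
    · exact cj_Sup_le R hk (fun x hx => hx.1) fun x hx => winf_PosJ hx
    · rw [← cj_cj_inv k (UJ cs h X (K : Set I))]
      exact cj_mono k (cj_Sup_le R hk.inv (fun x hx => hx.1) fun x hx => winf_inv_PosJ hx)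
  have hcard : Nat.card (UJ cs h X (Dset cs h w)) = Nat.card (UJ cs h X (K : Set I)) := by
    rw [← hUU, card_cj]
  rw [hcard, sm_def (VJ cs h X (K : Set I))]
  congr 2
  refine Finset.sum_congr rfl fun u hu => ?_
  have hu' := (Finset.mem_filter.1 hu).2
  rw [cj_mul, hVN, sm_cj]
  have h5 : u⁻¹ • f = f := hf _ (inv_mem hu')
  rw [h5]

end Cfsg.Agent.H769.Kaw

private theorem dce_c7acefa0ecd3 : _root_.True := by
  try have : _root_.True := by simp only [_root_.Cfsg.Agent.H631.Kaw.fixV.eq_1]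
  try have : _root_.True := by simp only [_root_.Cfsg.Agent.H631.Kaw.fixV.congr_simp]
  try have : _root_.True := by simp only [_root_.Cfsg.Agent.Nodes.LeviDec.VJ.congr_simp]
  try have : _root_.True := by simp only [_root_.Cfsg.Agent.Nodes.LeviDec.VNJ.congr_simp]
  try have : _root_.True := by simp only [_root_.Cfsg.Agent.H631.Kaw.coef.eq_1]
  try have : _root_.True := by simp only [_root_.Cfsg.Agent.Nodes.Bruhat.Cell.congr_simp]
  try have : _root_.True := by simp only [_root_.Cfsg.Agent.Nodes.Bruhat.UJ.congr_simp]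
  exact _root_.True.intro
end
end
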